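import Mathlib
import Groth.Prelude.Def_CInt

/-!
# Faithfully flat, separated, schematically birational morphisms are isomorphisms
-/

set_option autoImplicit false
universe u

namespace Groth.Agent.Lib.Helper23.SchBir

open CategoryTheory AlgebraicGeometry Limits MorphismProperty

/-- a retrocompact schematically dense open gives a scheme theoretically dominant inclusion -/
lemma isSchemeTheoreticallyDominant_ι {X : Scheme.{u}} (V : X.Opens) [QuasiCompact V.ι]
    (hV : CInt.IsSchematicallyDense V) : IsSchemeTheoreticallyDominant V.ι := by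
  rw [isSchemeTheoreticallyDominant_iff]
  refine Scheme.IdealSheafData.ext ?_
  funext W
  rw [Scheme.Hom.ker_apply]
  simp only [Scheme.IdealSheafData.ideal_bot, Pi.bot_apply]
  rw [← RingHom.injective_iff_ker_eq_bot, Scheme.Opens.ι_app]
  have e : V.ι ''ᵁ V.ι ⁻¹ᵁ W.1 = W.1 ⊓ V := by
    rw [Scheme.Hom.image_preimage_eq_opensRange_inf, Scheme.Opens.opensRange_ι, inf_comm]
  have h := hV W.1
  have hcomp : X.presheaf.map (homOfLE (show V.ι ''ᵁ V.ι ⁻¹ᵁ W.1 ≤ W.1 from
      e.le.trans inf_le_left)).op =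
      X.presheaf.map (homOfLE (inf_le_left : W.1 ⊓ V ≤ W.1)).op ≫
        X.presheaf.map (eqToHom e).op := by
    rw [← Functor.map_comp]
    rfl
  rw [hcomp]
  intro a b hab
  apply h
  have hi : Function.Injective (X.presheaf.map (eqToHom e).op) := by
    have : IsIso (X.presheaf.map (eqToHom e).op) := inferInstance
    exact ((ConcreteCategory.isIso_iff_bijective _).1 this).1
  apply hi
  rw [← CommRingCat.comp_apply, ← CommRingCat.comp_apply]
  exact hab

variable {X S : Scheme.{u}} (f : X ⟶ S)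

/-- if the two projections of `X ×_S X` agree on a scheme theoretically dominant quasi-compact
`j`, and `f` is separated, then the diagonal is an isomorphism. -/
lemma isIso_diagonal_of_dominant [IsSeparated f] {T : Scheme.{u}} (j : T ⟶ pullback f f)
    [IsSchemeTheoreticallyDominant j] [QuasiCompact j]
    (h : j ≫ pullback.fst f f = j ≫ pullback.snd f f) : IsIso (pullback.diagonal f) := by
  have hj : j = (j ≫ pullback.fst f f) ≫ pullback.diagonal f := by
    apply pullback.hom_ext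
    · rw [Category.assoc (j ≫ pullback.fst f f), pullback.diagonal_fst, Category.comp_id]
    · rw [Category.assoc (j ≫ pullback.fst f f), pullback.diagonal_snd, Category.comp_id, h]
  have : IsClosedImmersion (pullback.diagonal f) := inferInstance
  have hker : (pullback.diagonal f).ker = ⊥ := by
    have h1 : (pullback.diagonal f).ker ≤ ((j ≫ pullback.fst f f) ≫ pullback.diagonal f).ker :=
      Scheme.Hom.le_ker_comp _ _
    rw [← hj, j.ker_eq_bot] at h1
    exact le_bot_iff.1 h1
  exact IsClosedImmersion.isIso_iff_ker_eq_bot.2 hker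

theorem isIso_of_schBir [Flat f] [Surjective f] [QuasiCompact f] [IsSeparated f]
    (U : S.Opens) (V : X.Opens) [QuasiCompact V.ι]
    (hV : CInt.IsSchematicallyDense V)
    (hle : V ≤ f ⁻¹ᵁ U) (hiso : IsIso (f.resLE U V hle)) : IsIso f := by
  have := isSchemeTheoreticallyDominant_ι V hV
  have hmono : Mono (V.ι ≫ f) := by
    rw [← Scheme.Hom.resLE_comp_ι f hle]
    infer_instance
  obtain ⟨W₁, hW₁⟩ : ∃ W₁ : (pullback f f).Opens, W₁ = pullback.fst f f ⁻¹ᵁ V := ⟨_, rfl⟩
  have H₁ : IsPullback (pullback.fst f f ∣_ V) (pullback.fst f f ⁻¹ᵁ V).ι V.ι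
    (pullback.fst f f) := isPullback_morphismRestrict _ V
  have hd₁ : IsSchemeTheoreticallyDominant (pullback.fst f f ⁻¹ᵁ V).ι :=
    IsSchemeTheoreticallyDominant.of_isPullback H₁
  have hq₁ : QuasiCompact (pullback.fst f f ⁻¹ᵁ V).ι :=
    MorphismProperty.of_isPullback (P := @QuasiCompact) H₁ inferInstance
  obtain ⟨q, hq⟩ : ∃ q : ((pullback.fst f f ⁻¹ᵁ V : (pullback f f).Opens) : Scheme.{u}) ⟶ X,
    q = (pullback.fst f f ⁻¹ᵁ V).ι ≫ pullback.snd f f := ⟨_, rfl⟩
  have : Flat q := by rw [hq]; infer_instance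
  have H₂ : IsPullback (q ∣_ V) (q ⁻¹ᵁ V).ι V.ι q := isPullback_morphismRestrict q V
  have hd₂ : IsSchemeTheoreticallyDominant (q ⁻¹ᵁ V).ι :=
    IsSchemeTheoreticallyDominant.of_isPullback H₂
  have hq₂ : QuasiCompact (q ⁻¹ᵁ V).ι :=
    MorphismProperty.of_isPullback (P := @QuasiCompact) H₂ inferInstance
  -- the two projections agree on `W₂`
  have ha : ((q ⁻¹ᵁ V).ι ≫ (pullback.fst f f ⁻¹ᵁ V).ι) ≫ pullback.fst f f =
      ((q ⁻¹ᵁ V).ι ≫ (pullback.fst f f ∣_ V)) ≫ V.ι := by
    rw [Category.assoc, Category.assoc, ← H₁.w]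
  have hb : ((q ⁻¹ᵁ V).ι ≫ (pullback.fst f f ⁻¹ᵁ V).ι) ≫ pullback.snd f f = (q ∣_ V) ≫ V.ι := by
    rw [Category.assoc, ← hq, H₂.w]
  have hab : (q ⁻¹ᵁ V).ι ≫ (pullback.fst f f ∣_ V) = q ∣_ V := by
    rw [← cancel_mono (V.ι ≫ f), ← Category.assoc, ← Category.assoc, ← ha, ← hb]
    simp only [Category.assoc, pullback.condition]
  have hagree : ((q ⁻¹ᵁ V).ι ≫ (pullback.fst f f ⁻¹ᵁ V).ι) ≫ pullback.fst f f =
      ((q ⁻¹ᵁ V).ι ≫ (pullback.fst f f ⁻¹ᵁ V).ι) ≫ pullback.snd f f := by
    rw [ha, hb, hab]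
  have : IsIso (pullback.diagonal f) :=
    isIso_diagonal_of_dominant f ((q ⁻¹ᵁ V).ι ≫ (pullback.fst f f ⁻¹ᵁ V).ι) hagree
  have hp₁ : IsIso (pullback.fst f f) := by
    have h : pullback.diagonal f ≫ pullback.fst f f = 𝟙 X := pullback.diagonal_fst f
    have : pullback.fst f f = inv (pullback.diagonal f) := by
      rw [← cancel_epi (pullback.diagonal f), h, IsIso.hom_inv_id]
    rw [this]
    infer_instance
  exact of_pullback_fst_of_descendsAlong (P := isomorphisms Scheme.{u})
    (Q := @Surjective ⊓ @Flat ⊓ @QuasiCompact) (f := f) (g := f)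
    ⟨⟨inferInstance, inferInstance⟩, inferInstance⟩ hp₁

end Groth.Agent.Lib.Helper23.SchBir
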